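import Cfsg.Agent.McLRecog.Amalgam

/-!
An embedding of the centraliser of the model involution, large enough to carry the amalgam.
-/

set_option autoImplicit false

namespace Cfsg.Agent.CoverDegree.Amal

open Cfsg Cfsg.Agent.Invol Cfsg.Agent.McLRecog

variable {G : Type*} [Group G] [Finite G]

/-- An embedding of the centraliser of the model involution in that of `t`. -/
structure Emb (G : Type*) [Group G] where
  t : G
  ord : orderOf t = 2
  f : CT →* G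
  inj : Function.Injective f
  range_le : f.range ≤ Subgroup.centralizer {t}
  map_t : f ⟨t₀, mem_CT.mpr rfl⟩ = t
  norm : ∀ (Sd : Side) (h : Sd.Ok) (g : G), g * t = t * g →
    (∀ y ∈ ((Sd.E h).subgroupOf CT).map f, g * y * g⁻¹ ∈ ((Sd.E h).subgroupOf CT).map f) → g ∈ f.range
  pull : ∀ P : Subgroup G, Nat.card P = 16 → (∀ x ∈ P, x * x = 1) → t ∈ P →
    ∃ c : G, c * t = t * c ∧ ∀ x ∈ P, c * x * c⁻¹ ∈ f.range

/-- The two elementary subgroups are not fused, or are so inside the centraliser. -/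
def Fus (S : Emb G) : Prop :=
  (∀ g : G, ¬ ∀ x, x ∈ (E₀.subgroupOf CT).map S.f ↔ g * x * g⁻¹ ∈ (F₀.subgroupOf CT).map S.f) ∨
    ∃ g : G, g * S.t = S.t * g ∧
      ∀ x, x ∈ (E₀.subgroupOf CT).map S.f ↔ g * x * g⁻¹ ∈ (F₀.subgroupOf CT).map S.f

variable (S : Emb G)

open Classical in
/-- The identification as a function on the model. -/
noncomputable def Emb.fM (x : M) : G := if hx : x ∈ CT then S.f ⟨x, hx⟩ else 1

theorem fM_eq {x : M} (hx : x ∈ CT) : S.fM x = S.f ⟨x, hx⟩ := dif_pos hx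

theorem fM_mul {x y : M} (hx : x ∈ CT) (hy : y ∈ CT) : S.fM (x * y) = S.fM x * S.fM y := by
  rw [fM_eq S hx, fM_eq S hy, fM_eq S (mul_mem hx hy), ← map_mul]; rfl

theorem fM_inv {x : M} (hx : x ∈ CT) : S.fM x⁻¹ = (S.fM x)⁻¹ := by
  rw [fM_eq S hx, fM_eq S (inv_mem hx), ← map_inv]; rfl

theorem fM_one : S.fM 1 = 1 := by rw [fM_eq S CT.one_mem]; exact map_one _

theorem fM_conj {c x : M} (hc : c ∈ CT) (hx : x ∈ CT) :
    S.fM (c * x * c⁻¹) = S.fM c * S.fM x * (S.fM c)⁻¹ := by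
  rw [fM_mul S (mul_mem hc hx) (inv_mem hc), fM_mul S hc hx, fM_inv S hc]

theorem fM_inj {x y : M} (hx : x ∈ CT) (hy : y ∈ CT) (h : S.fM x = S.fM y) : x = y := by
  rw [fM_eq S hx, fM_eq S hy] at h
  exact congrArg Subtype.val (S.inj h)

theorem t₀_CT : t₀ ∈ CT := mem_CT.mpr rfl

theorem fM_t : S.fM t₀ = S.t := (fM_eq S t₀_CT).trans S.map_t

theorem fM_mem {x : M} (hx : x ∈ CT) : S.fM x ∈ Subgroup.centralizer ({S.t} : Set G) :=
  S.range_le (by rw [fM_eq S hx]; exact ⟨_, rfl⟩)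

theorem fM_comm {x : M} (hx : x ∈ CT) : S.fM x * S.t = S.t * S.fM x :=
  Subgroup.mem_centralizer_singleton_iff.1 (fM_mem S hx)

theorem exists_fM {g : G} (h : g ∈ S.f.range) : ∃ x ∈ CT, S.fM x = g := by
  obtain ⟨⟨x, hx⟩, e⟩ := h
  exact ⟨x, hx, (fM_eq S hx).trans e⟩

/-- The image of a subgroup. -/
noncomputable def Emb.im (P : Subgroup M) : Subgroup G := (P.subgroupOf CT).map S.f

theorem mem_im {P : Subgroup M} (hP : P ≤ CT) {g : G} : g ∈ S.im P ↔ ∃ x ∈ P, S.fM x = g := by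
  constructor
  · rintro ⟨⟨x, hx⟩, hxP, rfl⟩
    exact ⟨x, hxP, fM_eq S hx⟩
  · rintro ⟨x, hx, rfl⟩
    exact ⟨⟨x, hP hx⟩, hx, (fM_eq S (hP hx)).symm⟩

theorem card_im {P : Subgroup M} (hP : P ≤ CT) : Nat.card (S.im P) = Nat.card P := by
  rw [Emb.im, Subgroup.card_map_of_injective S.inj,
    Nat.card_congr (Subgroup.subgroupOfEquivOfLe hP).toEquiv]

theorem im_le {P : Subgroup M} (hP : P ≤ CT) {g : G} (hg : g ∈ S.im P) : g * S.t = S.t * g := by
  obtain ⟨x, hx, rfl⟩ := (mem_im S hP).1 hg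
  exact fM_comm S (hP hx)

/-- The second involution. -/
noncomputable def Emb.v : G := S.fM v₀

theorem v_order : orderOf S.v = 2 := by
  obtain ⟨h2, h1, -, hc⟩ := v_facts
  refine orderOf_eq_prime ?_ fun e => h1 (fM_inj S hc CT.one_mem (e.trans (fM_one S).symm))
  rw [pow_two, Emb.v, ← fM_mul S hc hc, h2, fM_one]

open Cfsg.Agent.Compute Cfsg.Agent.StemCert in
/-- An elementary subgroup of order sixteen containing the involution is conjugate to one of the two. -/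
theorem elem_conj {P : Subgroup G} (hc : Nat.card P = 16) (h2 : ∀ x ∈ P, x * x = 1) (hr : ∀ x ∈ P, x ∈ S.f.range) (ht : S.t ∈ P) :
    ∃ c : G, (c * S.t = S.t * c ∧ c ∈ S.f.range) ∧ ((∀ x, x ∈ P ↔ c * x * c⁻¹ ∈ S.im E₀) ∨
      (∀ x, x ∈ P ↔ c * x * c⁻¹ ∈ S.im F₀)) := by
  classical
  have := Fact.mk Nat.prime_two
  let P' : Subgroup M :=
    { carrier := {x | x ∈ CT ∧ S.fM x ∈ P}
      mul_mem' := fun ha hb => ⟨mul_mem ha.1 hb.1, by rw [fM_mul S ha.1 hb.1]; exact mul_mem ha.2 hb.2⟩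
      one_mem' := ⟨CT.one_mem, by rw [fM_one]; exact one_mem _⟩
      inv_mem' := fun ha => ⟨inv_mem ha.1, by rw [fM_inv S ha.1]; exact inv_mem ha.2⟩ }
  have hP'C : P' ≤ CT := fun x hx => hx.1
  have hcard : Nat.card P' = 16 := by
    rw [← hc]
    refine Nat.card_eq_of_bijective (fun x : P' => (⟨S.fM x, x.2.2⟩ : P)) ⟨fun a b e => ?_, fun y => ?_⟩
    · exact Subtype.ext (fM_inj S a.2.1 b.2.1 (congrArg (fun z : P => (z : G)) e))
    · obtain ⟨x, hx, hxe⟩ := exists_fM S (hr y y.2)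
      exact ⟨⟨x, hx, hxe.symm ▸ y.2⟩, Subtype.ext hxe⟩
  have h2' : ∀ x ∈ P', x * x = 1 := fun x hx =>
    fM_inj S (mul_mem hx.1 hx.1) CT.one_mem (by rw [fM_mul S hx.1 hx.1, h2 _ hx.2, fM_one])
  have hp : IsPGroup 2 P' := IsPGroup.of_card (n := 4) (by rw [hcard]; norm_num)
  obtain ⟨c, hcC, hcT⟩ := exists_conj_syl hp hP'C
  let Q : Subgroup M := P'.map (MulAut.conj c).toMonoidHom
  have ht' : t₀ ∈ Q := ⟨t₀, ⟨t₀_CT, by rw [fM_t]; exact ht⟩, by
    show c * t₀ * c⁻¹ = t₀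
    rw [mem_CT.mp hcC, mul_inv_cancel_right]⟩
  have hQ := elem_cases (P := Q) (by rintro _ ⟨x, hx, rfl⟩; exact hcT x hx)
    (by rw [Subgroup.card_map_of_injective (MulAut.conj c).injective, hcard])
    (by rintro _ ⟨x, hx, rfl⟩; rw [← map_mul, h2' x hx, map_one]) ht'
  refine ⟨S.fM c, ⟨fM_comm S hcC, by rw [fM_eq S hcC]; exact ⟨_, rfl⟩⟩, ?_⟩
  have key : ∀ {Sd : Side} (h : Sd.Ok), Q = Sd.E h →
      ∀ x, x ∈ P ↔ S.fM c * x * (S.fM c)⁻¹ ∈ S.im (Sd.E h) := by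
    intro Sd h e x
    constructor
    · intro hx
      obtain ⟨y, hy, rfl⟩ := exists_fM S (hr x hx)
      exact (mem_im S (E_le_CT h)).2 ⟨_, e ▸ ⟨y, ⟨hy, hx⟩, rfl⟩, fM_conj S hcC hy⟩
    · intro hx
      obtain ⟨y, hy, hye⟩ := (mem_im S (E_le_CT h)).1 hx
      obtain ⟨w, hw, rfl⟩ : y ∈ Q := e.symm ▸ hy
      have : S.fM (c * w * c⁻¹) = S.fM c * x * (S.fM c)⁻¹ := hye
      rw [fM_conj S hcC hw.1] at this
      rw [← mul_left_cancel (mul_right_cancel this)]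
      exact hw.2
  exact hQ.imp (key sideE_ok) (key sideF_ok)

end Cfsg.Agent.CoverDegree.Amal
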